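import Mathlib

/-!
# helper74: general scheme lemmas for the degree of Frobenius
-/

set_option autoImplicit false
universe u
open CategoryTheory CategoryTheory.Limits AlgebraicGeometry

namespace Groth.Agent.H74.WF

/-- every element of the residue field at a point of an affine open is a quotient of values of
sections. -/
theorem exists_div_evaluation {X : Scheme.{u}} {W : X.Opens} (hW : IsAffineOpen W) (x : X)
    (hx : x ∈ W) (t : X.residueField x) :
    ∃ b b' : Γ(X, W), X.evaluation W x hx b' ≠ 0 ∧
      t * X.evaluation W x hx b' = X.evaluation W x hx b := by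
  obtain ⟨s, rfl⟩ := X.residue_surjective x t
  letI := X.presheaf.algebra_section_stalk (⟨x, hx⟩ : W)
  haveI := hW.isLocalization_stalk ⟨x, hx⟩
  obtain ⟨⟨b, b'⟩, hbb'⟩ := IsLocalization.surj (hW.primeIdealOf ⟨x, hx⟩).asIdeal.primeCompl s
  have hunit : IsUnit (algebraMap Γ(X, W) (X.presheaf.stalk x) b') :=
    IsLocalization.map_units (X.presheaf.stalk x) b'
  have halg : ∀ c : Γ(X, W), algebraMap Γ(X, W) (X.presheaf.stalk x) c =
      X.presheaf.germ W x hx c := fun c => rfl
  refine ⟨b, b', ?_, ?_⟩
  · have h2 : IsUnit ((X.residue x).hom (algebraMap Γ(X, W) (X.presheaf.stalk x) b')) :=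
      hunit.map (X.residue x).hom
    exact h2.ne_zero
  · have := congrArg (X.residue x).hom hbb'
    simp only [map_mul] at this
    exact this

end Groth.Agent.H74.WF
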