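import Mathlib
import Groth.Agent.H84.WF_PL
import Groth.Agent.H74.WF.Geo1

/-!
# helper74: the geometric Frobenius on sections and residue fields
-/

set_option autoImplicit false
universe u
open CategoryTheory CategoryTheory.Limits AlgebraicGeometry

namespace Groth.Agent.H74.WF

theorem appLE_congr_hom {X Y : Scheme.{u}} {f g : X ⟶ Y} (h : f = g) (U : Y.Opens) (V : X.Opens)
    (e : V ≤ f ⁻¹ᵁ U) : f.appLE U V e = g.appLE U V (h ▸ e) := by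
  subst h; rfl

theorem ev_appLE {X : Scheme.{u}} (G : X ⟶ X) (W : X.Opens) (hW : W ≤ G ⁻¹ᵁ W) (x : X)
    (hx : x ∈ W) (b : Γ(X, W)) :
    (X.evaluation W x hx).hom ((G.appLE W W hW).hom b) =
      (G.residueFieldMap x).hom ((X.evaluation W (G x) (hW hx)).hom b) := by
  have h1 := Scheme.evaluation_naturality_apply G (V := W) x (hW hx) b
  rw [h1]
  have h2 : G.appLE W W hW = G.app W ≫ X.presheaf.map (homOfLE hW).op := rfl
  rw [h2]
  simp only [CommRingCat.hom_comp, RingHom.comp_apply]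
  have h3 : X.presheaf.map (homOfLE hW).op ≫ X.evaluation W x hx =
      X.evaluation (G ⁻¹ᵁ W) x (hW hx) := by
    unfold Scheme.evaluation
    rw [← Category.assoc, TopCat.Presheaf.germ_res]
  exact congrArg (fun φ => φ.hom ((G.app W).hom b)) h3

section

variable {k₀ : Type u} [Field k₀] [Finite k₀] {k : Type u} [Field k] [IsAlgClosed k] [Algebra k₀ k]
    {X : Scheme.{u}} {f : X ⟶ Spec (CommRingCat.of k₀)}
    {FX : X ⟶ X} (hFb : FX.base = 𝟙 _) (hle : ∀ U : X.Opens, U ≤ FX ⁻¹ᵁ U)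
    (hFapp : ∀ (U : X.Opens) (s : Γ(X, U)), (FX.appLE U U (hle U)).hom s = s ^ Nat.card k₀)
    {Xb : Scheme.{u}} {sb : Xb ⟶ Spec (CommRingCat.of k)} {π : Xb ⟶ X}
    (hπ : IsPullback π sb f (Spec.map (CommRingCat.ofHom (algebraMap k₀ k))))
    {Fs : Xb ⟶ Xb} (hFs : Fs ≫ sb = sb) (hF : Fs ≫ π = π ≫ FX)

include hFb hF in
theorem preimage_le (U : X.Opens) : π ⁻¹ᵁ U ≤ Fs ⁻¹ᵁ (π ⁻¹ᵁ U) := by
  intro x hx
  show π (Fs x) ∈ U
  have h1 : π (Fs x) = FX (π x) := by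
    rw [← Scheme.Hom.comp_apply, hF, Scheme.Hom.comp_apply]
  have h2 : FX (π x) = π x := by
    show FX.base (π x) = π x
    rw [hFb]; rfl
  rw [h1, h2]; exact hx

include hFapp hF in
theorem frob_app (U : X.Opens) (a : Γ(X, U)) :
    (Fs.appLE (π ⁻¹ᵁ U) (π ⁻¹ᵁ U) (preimage_le hFb hF U)).hom ((π.app U).hom a) =
      ((π.app U).hom a) ^ Nat.card k₀ := by
  have e1 : π.app U ≫ Fs.appLE (π ⁻¹ᵁ U) (π ⁻¹ᵁ U) (preimage_le hFb hF U) =
      (Fs ≫ π).appLE U (π ⁻¹ᵁ U) (by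
        intro x hx; exact preimage_le hFb hF U hx) := by
    rw [π.app_eq_appLE, Scheme.Hom.appLE_comp_appLE]
  have e2 : FX.appLE U U (hle U) ≫ π.app U = (π ≫ FX).appLE U (π ⁻¹ᵁ U) (by
        intro x hx; exact hle U hx) := by
    rw [π.app_eq_appLE, Scheme.Hom.appLE_comp_appLE]
  have e3 := appLE_congr_hom hF U (π ⁻¹ᵁ U) (by
        intro x hx; exact preimage_le hFb hF U hx)
  have e4 : π.app U ≫ Fs.appLE (π ⁻¹ᵁ U) (π ⁻¹ᵁ U) (preimage_le hFb hF U) =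
      FX.appLE U U (hle U) ≫ π.app U := by
    rw [e1, e3, e2]
  have := congrArg (fun φ => φ.hom a) e4
  simp only [CommRingCat.hom_comp, RingHom.comp_apply] at this
  rw [this, hFapp, map_pow]

include hFs in
theorem frob_const (W : Xb.Opens) (hW : W ≤ Fs ⁻¹ᵁ W)
    (c : Γ(Spec (CommRingCat.of k), ⊤)) :
    (Fs.appLE W W hW).hom ((sb.appLE ⊤ W le_top).hom c) = (sb.appLE ⊤ W le_top).hom c := by
  have e1 : sb.appLE ⊤ W le_top ≫ Fs.appLE W W hW = (Fs ≫ sb).appLE ⊤ W le_top :=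
    Scheme.Hom.appLE_comp_appLE Fs sb ⊤ W W le_top hW
  have e2 := appLE_congr_hom hFs ⊤ W le_top
  have := congrArg (fun φ => φ.hom c) (e1.trans e2)
  simpa only [CommRingCat.hom_comp, RingHom.comp_apply] using this

omit [IsAlgClosed k] in
/-- `q`-th roots of constants. -/
theorem exists_root_const [IsAlgClosed k] (c : Γ(Spec (CommRingCat.of k), ⊤)) (q : ℕ)
    (hq : 0 < q) : ∃ c' : Γ(Spec (CommRingCat.of k), ⊤), c' ^ q = c := by
  obtain ⟨z, hz⟩ := IsAlgClosed.exists_pow_nat_eq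
    ((Scheme.ΓSpecIso (CommRingCat.of k)).hom.hom c) hq
  refine ⟨(Scheme.ΓSpecIso (CommRingCat.of k)).inv.hom z, ?_⟩
  rw [← map_pow, hz]
  simp

include hFb hFapp hπ hFs hF in
theorem frob_sections (p e : ℕ) [Fact p.Prime] [CharP k p] (hq : Nat.card k₀ = p ^ e)
    (U : X.Opens) (hU : IsAffineOpen U) [Nontrivial Γ(Xb, π ⁻¹ᵁ U)] (b : Γ(Xb, π ⁻¹ᵁ U)) :
    (∃ t : Γ(Xb, π ⁻¹ᵁ U),
      (Fs.appLE (π ⁻¹ᵁ U) (π ⁻¹ᵁ U) (preimage_le hFb hF U)).hom b = t ^ Nat.card k₀) ∧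
    (∃ b₁ : Γ(Xb, π ⁻¹ᵁ U),
      (Fs.appLE (π ⁻¹ᵁ U) (π ⁻¹ᵁ U) (preimage_le hFb hF U)).hom b₁ = b ^ Nat.card k₀) := by
  have hq0 : 0 < Nat.card k₀ := Nat.card_pos
  let j : k →+* Γ(Xb, π ⁻¹ᵁ U) :=
    (sb.appLE ⊤ (π ⁻¹ᵁ U) le_top).hom.comp (Scheme.ΓSpecIso (CommRingCat.of k)).inv.hom
  haveI : ExpChar k p := ExpChar.prime (Fact.out : p.Prime)
  haveI : ExpChar Γ(Xb, π ⁻¹ᵁ U) p := expChar_of_injective_ringHom j.injective p
  obtain ⟨n, a, c, rfl⟩ := Groth.Agent.H84.WF_PL.exists_sum_appLE hπ U hU b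
  choose c' hc' using fun i => exists_root_const (c i) (Nat.card k₀) hq0
  constructor
  · refine ⟨∑ i, (π.app U).hom (a i) * (sb.appLE ⊤ (π ⁻¹ᵁ U) le_top).hom (c' i), ?_⟩
    rw [map_sum, hq, sum_pow_char_pow]
    refine Finset.sum_congr rfl fun i _ => ?_
    rw [map_mul, frob_app hFb hle hFapp hF, frob_const hFs, mul_pow, ← map_pow _ (c' i), ← hq,
      hc']
  · refine ⟨∑ i, (π.app U).hom (a i) * (sb.appLE ⊤ (π ⁻¹ᵁ U) le_top).hom (c i ^ Nat.card k₀), ?_⟩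
    rw [map_sum]
    conv_rhs => rw [hq, sum_pow_char_pow, ← hq]
    refine Finset.sum_congr rfl fun i _ => ?_
    rw [map_mul, frob_app hFb hle hFapp hF, frob_const hFs, mul_pow, map_pow]

include hFb hFapp hπ hFs hF in
theorem residue_frob (p e : ℕ) [Fact p.Prime] [CharP k p] (hq : Nat.card k₀ = p ^ e)
    (U : X.Opens) (hU : IsAffineOpen U) (x : Xb) (hx : x ∈ π ⁻¹ᵁ U) :
    (∀ t : Xb.residueField x, ∃ u : Xb.residueField (Fs x),
      (Fs.residueFieldMap x).hom u = t ^ Nat.card k₀) ∧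
    (∀ u : Xb.residueField (Fs x), ∃ t : Xb.residueField x,
      (Fs.residueFieldMap x).hom u = t ^ Nat.card k₀) := by
  have hq0 : 0 < Nat.card k₀ := Nat.card_pos
  have hWle := preimage_le hFb hF U
  haveI : Nonempty (π ⁻¹ᵁ U) := ⟨⟨x, hx⟩⟩
  haveI : IsAffineHom π :=
    MorphismProperty.of_isPullback (P := @IsAffineHom) hπ.flip inferInstance
  have hWaff : IsAffineOpen (π ⁻¹ᵁ U) := hU.preimage π
  have key := fun b => frob_sections hFb hle hFapp hπ hFs hF p e hq U hU b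
  have hev := fun b => ev_appLE Fs (π ⁻¹ᵁ U) hWle x hx b
  constructor
  · intro t
    obtain ⟨b, b', hb', hbb'⟩ := exists_div_evaluation hWaff x hx t
    obtain ⟨b₁, hb₁⟩ := (key b).2
    obtain ⟨b'₁, hb'₁⟩ := (key b').2
    have e1 : (Fs.residueFieldMap x).hom ((Xb.evaluation (π ⁻¹ᵁ U) (Fs x) (hWle hx)).hom b₁) =
        ((Xb.evaluation (π ⁻¹ᵁ U) x hx).hom b) ^ Nat.card k₀ := by
      rw [← hev, hb₁, map_pow]
    have e2 : (Fs.residueFieldMap x).hom ((Xb.evaluation (π ⁻¹ᵁ U) (Fs x) (hWle hx)).hom b'₁) =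
        ((Xb.evaluation (π ⁻¹ᵁ U) x hx).hom b') ^ Nat.card k₀ := by
      rw [← hev, hb'₁, map_pow]
    refine ⟨(Xb.evaluation (π ⁻¹ᵁ U) (Fs x) (hWle hx)).hom b₁ /
      (Xb.evaluation (π ⁻¹ᵁ U) (Fs x) (hWle hx)).hom b'₁, ?_⟩
    rw [map_div₀, e1, e2]
    have hbb'' : (Xb.evaluation (π ⁻¹ᵁ U) x hx).hom b =
        t * (Xb.evaluation (π ⁻¹ᵁ U) x hx).hom b' := hbb'.symm
    rw [hbb'', mul_pow, mul_div_assoc, div_self (pow_ne_zero _ hb'), mul_one]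
  · intro u
    obtain ⟨b, b', hb', hbb'⟩ := exists_div_evaluation hWaff (Fs x) (hWle hx) u
    obtain ⟨t₁, ht₁⟩ := (key b).1
    obtain ⟨t₂, ht₂⟩ := (key b').1
    have e1 : (Fs.residueFieldMap x).hom ((Xb.evaluation (π ⁻¹ᵁ U) (Fs x) (hWle hx)).hom b) =
        ((Xb.evaluation (π ⁻¹ᵁ U) x hx).hom t₁) ^ Nat.card k₀ := by
      rw [← hev, ht₁, map_pow]
    have e2 : (Fs.residueFieldMap x).hom ((Xb.evaluation (π ⁻¹ᵁ U) (Fs x) (hWle hx)).hom b') =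
        ((Xb.evaluation (π ⁻¹ᵁ U) x hx).hom t₂) ^ Nat.card k₀ := by
      rw [← hev, ht₂, map_pow]
    have hne : (Xb.evaluation (π ⁻¹ᵁ U) x hx).hom t₂ ≠ 0 := by
      intro h0
      rw [h0, zero_pow hq0.ne'] at e2
      exact hb' ((map_eq_zero (Fs.residueFieldMap x).hom).mp e2)
    refine ⟨(Xb.evaluation (π ⁻¹ᵁ U) x hx).hom t₁ / (Xb.evaluation (π ⁻¹ᵁ U) x hx).hom t₂, ?_⟩
    have h3 := congrArg (Fs.residueFieldMap x).hom hbb'
    rw [map_mul, e1, e2] at h3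
    rw [div_pow, eq_div_iff (pow_ne_zero _ hne)]
    exact h3

end

end Groth.Agent.H74.WF
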