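import Mathlib
import Groth.Agent.H77.WeilPush
import Groth.Agent.S15445
import Groth.Agent.H74.WF.Geo2
import Groth.Agent.H72.WF_PB

/-!
# helper74: degree of the geometric Frobenius at the generic point and its action on the top
cohomology
-/

set_option autoImplicit false
universe u v
open CategoryTheory CategoryTheory.Limits AlgebraicGeometry WeilCoh

namespace Groth.Agent.H74.WF

/-- the residue field at a point of a scheme locally of finite type over a field is essentially
of finite type over the field. -/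
theorem essFiniteType_resMapOf {k : Type u} [Field k] {X : Scheme.{u}}
    (s : X ⟶ Spec (CommRingCat.of k)) [LocallyOfFiniteType s] (x : X) :
    (Groth.Agent.H54.resMapOf s x).EssFiniteType := by
  unfold Groth.Agent.H54.resMapOf
  refine RingHom.EssFiniteType.comp ?_
    (RingHom.FiniteType.of_surjective _ (X.residue_surjective x)).essFiniteType
  have h1 : ((Scheme.ΓSpecIso (CommRingCat.of k)).inv.hom).EssFiniteType :=
    (RingHom.FiniteType.of_surjective _
      (ConcreteCategory.bijective_of_isIso (Scheme.ΓSpecIso (CommRingCat.of k)).inv).2).essFiniteType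
  rw [← RingHom.comp_assoc]
  refine RingHom.EssFiniteType.comp h1 ?_
  have h2 : (X.presheaf.germ ⊤ x trivial).hom.comp s.appTop.hom =
      ((s.stalkMap x).hom).comp
        (((Spec (CommRingCat.of k)).presheaf.germ ⊤ (s x) trivial).hom) := by
    have := Scheme.Hom.germ_stalkMap s ⊤ x trivial
    rw [← CommRingCat.hom_comp, ← CommRingCat.hom_comp]
    exact congrArg CommRingCat.Hom.hom this.symm
  rw [h2]
  refine RingHom.EssFiniteType.comp ?_ (LocallyOfFiniteType.stalkMap s x)
  letI := (Spec (CommRingCat.of k)).presheaf.algebra_section_stalk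
    (⟨s x, trivial⟩ : (⊤ : (Spec (CommRingCat.of k)).Opens))
  haveI := (isAffineOpen_top (Spec (CommRingCat.of k))).isLocalization_stalk ⟨s x, trivial⟩
  have : (algebraMap Γ(Spec (CommRingCat.of k), ⊤)
      ((Spec (CommRingCat.of k)).presheaf.stalk (s x))).EssFiniteType := by
    rw [RingHom.essFiniteType_algebraMap]
    exact Algebra.EssFiniteType.of_isLocalization _
      ((isAffineOpen_top (Spec (CommRingCat.of k))).primeIdealOf ⟨s x, trivial⟩).asIdeal.primeCompl
  exact this

section Frob

variable {k₀ : Type u} [Field k₀] [Finite k₀] {k : Type u} [Field k] [IsAlgClosed k] [Algebra k₀ k]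
    {X : Scheme.{u}} {f : X ⟶ Spec (CommRingCat.of k₀)}
    {FX : X ⟶ X} (hFb : FX.base = 𝟙 _) (hle : ∀ U : X.Opens, U ≤ FX ⁻¹ᵁ U)
    (hFapp : ∀ (U : X.Opens) (s : Γ(X, U)), (FX.appLE U U (hle U)).hom s = s ^ Nat.card k₀)
    {Xb : WeilCoh.Var k} {π : Xb.obj.left ⟶ X}
    (hπ : IsPullback π Xb.obj.hom f (Spec.map (CommRingCat.ofHom (algebraMap k₀ k))))
    {F : Xb ⟶ Xb} (hF : WeilCoh.sm F ≫ π = π ≫ FX)

include hFb hFapp hπ hF in
/-- the degree of the geometric Frobenius at the generic point is `q ^ dim`. -/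
theorem residueDegree_frob :
    (sm F).residueDegree (genericPoint Xb.obj.left) = Nat.card k₀ ^ dim Xb.obj.left := by
  classical
  obtain ⟨p, hp⟩ := CharP.exists k₀
  haveI := hp
  have hprime : p.Prime := CharP.char_is_prime k₀ p
  haveI : Fact p.Prime := ⟨hprime⟩
  letI := Fintype.ofFinite k₀
  obtain ⟨e, -, he⟩ := FiniteField.card k₀ p
  have hq : Nat.card k₀ = p ^ (e : ℕ) := by rw [Nat.card_eq_fintype_card]; exact he
  haveI : CharP k p := charP_of_injective_algebraMap (algebraMap k₀ k).injective p
  -- an affine open around the image of the generic point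
  obtain ⟨U, hxU⟩ : ∃ U : X.affineOpens, π (genericPoint Xb.obj.left) ∈ U.1 := by
    obtain ⟨_, ⟨U, hU, rfl⟩, hx, -⟩ := X.isBasis_affineOpens.exists_subset_of_mem_open
      (Set.mem_univ (π (genericPoint Xb.obj.left))) isOpen_univ
    exact ⟨⟨U, hU⟩, hx⟩
  have hres := residue_frob hFb hle hFapp hπ (Groth.Agent.H77.sm_w F) hF p e hq U.1 U.2
    (genericPoint Xb.obj.left) hxU
  unfold Scheme.Hom.residueDegree
  letI := (Groth.Agent.H54.resMapOf Xb.obj.hom (genericPoint Xb.obj.left)).toAlgebra
  haveI : Algebra.EssFiniteType k (Xb.obj.left.residueField (genericPoint Xb.obj.left)) :=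
    essFiniteType_resMapOf Xb.obj.hom (genericPoint Xb.obj.left)
  have hn : Algebra.trdeg k (Xb.obj.left.residueField (genericPoint Xb.obj.left)) =
      ((dim Xb.obj.left : ℕ) : Cardinal.{u}) := by
    rw [Groth.Agent.H54.tdeg_spec Xb.obj.hom (genericPoint Xb.obj.left),
      ← Groth.Agent.H77.pdim_eq_tdeg, Groth.Agent.H77.pdim_genericPoint]
  have := Groth.Agent.H72.WF_PB.finrank_of_range_eq_pow k (Xb.obj.left.residueField (genericPoint Xb.obj.left))
    (Xb.obj.left.residueField ((sm F) (genericPoint Xb.obj.left))) p e (dim Xb.obj.left) hn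
    ((sm F).residueFieldMap (genericPoint Xb.obj.left)).hom
    (fun t => by obtain ⟨u, hu⟩ := hres.1 t; exact ⟨u, by rw [hu, hq]⟩)
    (fun u => by obtain ⟨t, ht⟩ := hres.2 u; exact ⟨t, by rw [ht, hq]⟩)
  rw [hq, ← pow_mul]
  exact this

include hFb hFapp hπ hF in
/-- the geometric Frobenius fixes the generic point. -/
theorem frob_genericPoint :
    (sm F) (genericPoint Xb.obj.left) = genericPoint Xb.obj.left := by
  by_contra hne
  have hdeg : (sm F).residueDegree (genericPoint Xb.obj.left) ≠ 0 := by
    rw [residueDegree_frob hFb hle hFapp hπ hF]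
    exact pow_ne_zero _ Nat.card_pos.ne'
  have h1 := Groth.Agent.H77.pdim_map_eq_of_residueDegree_ne_zero F (genericPoint Xb.obj.left) hdeg
  rw [Groth.Agent.H77.pdim_eq_tdeg, Groth.Agent.H77.pdim_eq_tdeg] at h1
  have h2 := Groth.Agent.H54.tdeg_lt_of_specializes Xb.obj.hom
    (genericPoint_specializes ((sm F) (genericPoint Xb.obj.left))) (Ne.symm hne)
  omega

include hFb hFapp hπ hF in
/-- the geometric Frobenius multiplies the trace by `q ^ dim`. -/
theorem tr_pull_frob {K : Type v} [Field K] [CharZero K] (T : WeilCoh.Theory k K) (a : T.H Xb)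
    (ha : a ∈ T.gr Xb (2 * (dim Xb.obj.left : ℤ))) :
    T.tr Xb (T.pull F a) = ((Nat.card k₀ : K) ^ dim Xb.obj.left) * T.tr Xb a := by
  have := Groth.Agent.S15445.result k K T Xb Xb F (frob_genericPoint hFb hle hFapp hπ hF) rfl a ha
  rw [this, residueDegree_frob hFb hle hFapp hπ hF, Nat.cast_pow]

end Frob

end Groth.Agent.H74.WF
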